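import Groth.Agent.Lib.GrpImage19.Basic
import Groth.Agent.Lib.AbRigid.FibreTranslate
import Groth.Agent.Lib.AlgGrpBasic19.Basic
import Groth.Agent.Lib.FiniteNhd12.Basic
import Groth.Agent.Lib.FpqcDesc.Basic
import Groth.Agent.Lib.ThickUnr4
import Groth.Agent.Lib.H12.SepDesc
import Mathlib.AlgebraicGeometry.AlgClosed.Basic
import Mathlib.RingTheory.Artinian.Ring

/-!
# Quasi-finite quasi-compact homomorphisms of group schemes are finite
-/

universe u

open CategoryTheory Limits MonoidalCategory CartesianMonoidalCategory AlgebraicGeometry TopologicalSpace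
open scoped MonObj GrpObj

set_option linter.style.haveILetI false
set_option backward.isDefEq.respectTransparency false

namespace Groth.Agent.GrpFin20

/-- Base change of a morphism over a base gives a cartesian square. -/
theorem isPullback_map {S S' : Scheme.{u}} (φ : S' ⟶ S) {X Z : Over S} (f : X ⟶ Z) :
    IsPullback (pullback.fst X.hom φ) ((Over.pullback φ).map f).left f.left (pullback.fst Z.hom φ) := by
  refine IsPullback.of_bot (h₂₁ := pullback.fst Z.hom φ) (v₂₁ := pullback.snd Z.hom φ) (v₂₂ := Z.hom) (h₃₁ := φ) ?_ ?_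
    (IsPullback.of_hasPullback Z.hom φ)
  · rw [show ((Over.pullback φ).map f).left ≫ pullback.snd Z.hom φ = pullback.snd X.hom φ from
      Over.w ((Over.pullback φ).map f), Over.w f]
    exact IsPullback.of_hasPullback X.hom φ
  · simp only [Over.pullback_map_left, pullback.lift_fst]

variable {K : Type u} [Field K]

/-- A surjective quasi-finite quasi-compact homomorphism over an algebraically closed field is finite. -/
theorem isFinite_of_surjective [IsAlgClosed K] (G Z : Over (Spec (CommRingCat.of K))) [GrpObj G] [GrpObj Z]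
    [LocallyOfFiniteType G.hom] [LocallyOfFiniteType Z.hom] (g : G ⟶ Z) [IsMonHom g]
    [QuasiCompact g.left] [Surjective g.left] [LocallyQuasiFinite g.left] : IsFinite g.left := by
  haveI : LocallyOfFiniteType g.left := AlgGrpBasic19.lft_left g
  haveI : IsSeparated G.hom := AbRigid.isSeparated_of_grpObj G
  haveI : IsSeparated g.left := by
    haveI : IsSeparated (g.left ≫ Z.hom) := by rw [Over.w]; infer_instance
    exact IsSeparated.of_comp g.left Z.hom
  haveI : JacobsonSpace Z.left := LocallyOfFiniteType.jacobsonSpace Z.hom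
  haveI : JacobsonSpace G.left := LocallyOfFiniteType.jacobsonSpace G.hom
  obtain ⟨v, -, hv⟩ := VarDim.exists_maximal_specializes Z.hom ((η[Z]).left (AbRigid.pt₀ K))
  obtain ⟨V, -, hvV, hfin⟩ := FiniteNhd12.exists_affine_isFinite g.left hv
    (g.left.finite_preimage_singleton v)
  obtain ⟨z₀, hz₀V, hz₀⟩ := nonempty_inter_closedPoints (Z := (V : Set Z.left)) ⟨v, hvV⟩ V.isOpen.isLocallyClosed
  let Ω : Set Z.left := {z | ∃ W : Z.left.Opens, z ∈ W ∧ IsFinite (g.left ∣_ W)}
  have hclosed : ∀ z, IsClosed ({z} : Set Z.left) → z ∈ Ω := by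
    intro z hz
    -- lift the two closed points to closed points of the source
    have hlift : ∀ w : Z.left, IsClosed ({w} : Set Z.left) →
        ∃ a : 𝟙_ (Over (Spec (CommRingCat.of K))) ⟶ G, (a ≫ g).left (AbRigid.pt₀ K) = w := by
      intro w hw
      obtain ⟨x, hx⟩ := g.left.surjective w
      obtain ⟨y, hy, hyc⟩ := nonempty_inter_closedPoints (Z := g.left ⁻¹' {w}) ⟨x, hx⟩
        (hw.preimage g.left.continuous).isLocallyClosed
      refine ⟨Over.homMk (pointOfClosedPoint G.hom y hyc) (pointOfClosedPoint_comp G.hom y hyc), ?_⟩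
      rw [Over.comp_left, Scheme.Hom.comp_apply]
      simp only [Over.homMk_left]
      exact (congrArg g.left.base (pointOfClosedPoint_apply G.hom y hyc _)).trans hy
    obtain ⟨a, ha⟩ := hlift z hz
    obtain ⟨b, hb⟩ := hlift z₀ hz₀
    let c := b * a⁻¹
    have hcomm : AbRigid.ltr c ≫ g = g ≫ AbRigid.ltr (c ≫ g) := by
      simp only [AbRigid.ltr, MonObj.comp_mul, MonObj.mul_comp, Category.comp_id, Category.id_comp,
        ← Category.assoc, CartesianMonoidalCategory.comp_toUnit]
    haveI : IsIso (AbRigid.ltr c).left :=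
      inferInstanceAs (IsIso ((Over.forget _).mapIso (AbRigid.ltrIso c)).hom)
    haveI : IsIso (AbRigid.ltr (c ≫ g)).left :=
      inferInstanceAs (IsIso ((Over.forget _).mapIso (AbRigid.ltrIso (c ≫ g))).hom)
    refine ⟨(AbRigid.ltr (c ≫ g)).left ⁻¹ᵁ V, ?_, ?_⟩
    · show (AbRigid.ltr (c ≫ g)).left z ∈ V
      have : (a ≫ g) ≫ AbRigid.ltr (c ≫ g) = b ≫ g := by
        rw [AbRigid.comp_ltr, ← MonObj.mul_comp]
        simp [c]
      rw [← ha, ← Scheme.Hom.comp_apply, ← Over.comp_left, this, hb]
      exact hz₀V
    · have h1 : IsFinite ((AbRigid.ltr c ≫ g).left ∣_ V) := by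
        rw [Over.comp_left, morphismRestrict_comp]
        exact MorphismProperty.comp_mem @IsFinite _ _ inferInstance hfin
      rw [hcomm, Over.comp_left, morphismRestrict_comp] at h1
      exact (MorphismProperty.cancel_right_of_respectsIso @IsFinite _ _).1 h1
  have hΩo : IsOpen Ω := isOpen_iff_forall_mem_open.2 fun z ⟨W, hzW, hW⟩ =>
    ⟨W, fun y hy => ⟨W, hy, hW⟩, W.isOpen, hzW⟩
  have hΩ : ∀ z, z ∈ Ω := by
    intro z
    by_contra hzn
    obtain ⟨w, hw, hwc⟩ := nonempty_inter_closedPoints (Z := Ωᶜ) ⟨z, hzn⟩ hΩo.isClosed_compl.isLocallyClosed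
    exact hw (hclosed w hwc)
  choose W hW hWf using hΩ
  refine IsZariskiLocalAtTarget.of_iSup_eq_top (P := @IsFinite) W ?_ hWf
  exact top_unique fun z _ => Opens.mem_iSup.2 ⟨z, hW z⟩

/-- A quasi-finite quasi-compact homomorphism of groups over an algebraically closed field is finite. -/
theorem isFinite_of_isAlgClosed [IsAlgClosed K] (G H : Over (Spec (CommRingCat.of K))) [GrpObj G] [GrpObj H]
    [LocallyOfFiniteType G.hom] [LocallyOfFiniteType H.hom] (u : G ⟶ H) [IsMonHom u]
    [QuasiCompact u.left] [LocallyQuasiFinite u.left] : IsFinite u.left := by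
  let Z : Over (Spec (CommRingCat.of K)) := Over.mk (u.left.imageι ≫ H.hom)
  let i : Z ⟶ H := Over.homMk u.left.imageι rfl
  let g : G ⟶ Z := Over.homMk u.left.toImage (by
    show u.left.toImage ≫ u.left.imageι ≫ H.hom = G.hom
    rw [Scheme.Hom.toImage_imageι_assoc, Over.w])
  haveI : IsClosedImmersion i.left := inferInstanceAs (IsClosedImmersion u.left.imageι)
  haveI : IsSchemeTheoreticallyDominant g.left := AbRigid.isSchemeTheoreticallyDominant_toImage u.left
  have hgi : g ≫ i = u := by ext1; exact u.left.toImage_imageι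
  obtain ⟨_, hi, hg⟩ := GrpImage19.exists_grpObj u i g hgi
  haveI : LocallyOfFiniteType Z.hom := inferInstanceAs (LocallyOfFiniteType (u.left.imageι ≫ H.hom))
  haveI : QuasiCompact g.left := GrpImage19.quasiCompact_of_factor u i g hgi
  haveI : Surjective g.left := GrpImage19.surjective u i g hgi
  haveI : LocallyQuasiFinite g.left := by
    haveI : LocallyQuasiFinite (g.left ≫ i.left) := by rw [← Over.comp_left, hgi]; infer_instance
    exact LocallyQuasiFinite.of_comp g.left i.left
  haveI := isFinite_of_surjective G Z g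
  rw [← hgi, Over.comp_left]
  infer_instance

/-- A quasi-finite quasi-compact homomorphism of groups over a field is finite. -/
theorem isFinite_of_field (G H : Over (Spec (CommRingCat.of K))) [GrpObj G] [GrpObj H]
    [LocallyOfFiniteType G.hom] [LocallyOfFiniteType H.hom] (u : G ⟶ H) [IsMonHom u]
    [QuasiCompact u.left] [LocallyQuasiFinite u.left] : IsFinite u.left := by
  let φ := Spec.map (CommRingCat.ofHom (algebraMap K (AlgebraicClosure K)))
  let F := Over.pullback φ
  letI : GrpObj (F.obj G) := Functor.grpObjObj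
  letI : GrpObj (F.obj H) := Functor.grpObjObj
  haveI : IsMonHom (F.map u) := inferInstance
  haveI : LocallyOfFiniteType (F.obj G).hom := inferInstanceAs (LocallyOfFiniteType (pullback.snd G.hom φ))
  haveI : LocallyOfFiniteType (F.obj H).hom := inferInstanceAs (LocallyOfFiniteType (pullback.snd H.hom φ))
  have sq := isPullback_map φ u
  haveI : QuasiCompact (F.map u).left := MorphismProperty.of_isPullback sq ‹QuasiCompact u.left›
  haveI : LocallyQuasiFinite (F.map u).left := MorphismProperty.of_isPullback sq ‹LocallyQuasiFinite u.left›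
  haveI : IsFinite (F.map u).left := isFinite_of_isAlgClosed _ _ (F.map u)
  haveI := FpqcDesc.descendsAlong_isFinite.{u}
  refine MorphismProperty.of_isPullback_of_descendsAlong
    (Q := @Surjective ⊓ @Flat ⊓ @QuasiCompact) sq.flip ?_ ‹IsFinite (F.map u).left›
  exact ⟨⟨inferInstance, inferInstance⟩, inferInstance⟩

/-- A quasi-finite quasi-compact homomorphism of groups over an Artinian local ring is finite. -/
theorem isFinite_of_artinian (A : Type u) [CommRing A] [IsArtinianRing A] [IsLocalRing A]
    (G H : Over (Spec (CommRingCat.of A))) [GrpObj G] [GrpObj H]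
    [LocallyOfFiniteType G.hom] [LocallyOfFiniteType H.hom] (u : G ⟶ H) [IsMonHom u]
    [QuasiCompact u.left] [LocallyQuasiFinite u.left] : IsFinite u.left := by
  haveI : LocallyOfFiniteType (u.left ≫ H.hom) := by rw [Over.w]; infer_instance
  haveI : LocallyOfFiniteType u.left := locallyOfFiniteType_of_comp u.left H.hom
  let k := IsLocalRing.ResidueField A
  let i : Spec (CommRingCat.of k) ⟶ Spec (CommRingCat.of A) :=
    Spec.map (CommRingCat.ofHom (IsLocalRing.residue A))
  haveI : IsClosedImmersion i := IsClosedImmersion.spec_of_surjective _ IsLocalRing.residue_surjective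
  haveI : Surjective i := ⟨fun y => ⟨IsLocalRing.closedPoint k, Subsingleton.elim (α := PrimeSpectrum A) _ _⟩⟩
  let F := Over.pullback i
  letI : GrpObj (F.obj G) := Functor.grpObjObj
  letI : GrpObj (F.obj H) := Functor.grpObjObj
  haveI : IsMonHom (F.map u) := inferInstance
  haveI : LocallyOfFiniteType (F.obj G).hom := inferInstanceAs (LocallyOfFiniteType (pullback.snd G.hom i))
  haveI : LocallyOfFiniteType (F.obj H).hom := inferInstanceAs (LocallyOfFiniteType (pullback.snd H.hom i))
  have sq := isPullback_map i u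
  haveI : QuasiCompact (F.map u).left := MorphismProperty.of_isPullback sq ‹QuasiCompact u.left›
  haveI : LocallyQuasiFinite (F.map u).left := MorphismProperty.of_isPullback sq ‹LocallyQuasiFinite u.left›
  haveI : IsFinite (F.map u).left := isFinite_of_field _ _ (F.map u)
  let π := pullback.fst G.hom i
  haveI : IsClosedImmersion (pullback.fst H.hom i) := inferInstance
  haveI : UniversallyClosed (π ≫ u.left) := by rw [sq.w]; infer_instance
  haveI : IsSeparated (π ≫ u.left) := by rw [sq.w]; infer_instance
  haveI : UniversallyClosed u.left := UniversallyClosed.of_comp_surjective π u.left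
  haveI : IsSeparated u.left := H12.isSeparated_of_surjective_universallyClosed (π ≫ u.left) u.left π rfl
  haveI : IsProper u.left := ⟨⟩
  exact IsFinite.of_isProper_of_locallyQuasiFinite u.left

end Groth.Agent.GrpFin20
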