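import Groth.Agent.Lib.GrpFin20.Basic

/-!
# Homomorphisms with discrete kernel are quasi-finite
-/

universe u

open CategoryTheory Limits MonoidalCategory CartesianMonoidalCategory AlgebraicGeometry TopologicalSpace
open scoped MonObj GrpObj

set_option linter.style.haveILetI false
set_option backward.isDefEq.respectTransparency false

namespace Groth.Agent.GrpFin20

variable {K : Type u} [Field K]

/-- Over an algebraically closed field, a homomorphism whose fibre over the unit is discrete is
locally quasi-finite. -/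
theorem locallyQuasiFinite_of_isAlgClosed [IsAlgClosed K] (G H : Over (Spec (CommRingCat.of K))) [GrpObj G] [GrpObj H]
    [LocallyOfFiniteType G.hom] [LocallyOfFiniteType H.hom] (u : G ⟶ H) [IsMonHom u]
    (hd : _root_.IsDiscrete (u.left.base ⁻¹' {(η[H]).left (AbRigid.pt₀ K)})) : LocallyQuasiFinite u.left := by
  haveI : LocallyOfFiniteType u.left := AlgGrpBasic19.lft_left u
  haveI : JacobsonSpace G.left := LocallyOfFiniteType.jacobsonSpace G.hom
  rw [← Scheme.Hom.quasiFiniteLocus_eq_top_iff]
  by_contra hne
  obtain ⟨x, hx, hxc⟩ : ((u.left.quasiFiniteLocus : Set G.left)ᶜ ∩ closedPoints G.left).Nonempty := by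
    refine nonempty_inter_closedPoints ?_ u.left.quasiFiniteLocus.isOpen.isClosed_compl.isLocallyClosed
    rw [Set.nonempty_compl]
    exact fun h => hne (Opens.ext h)
  apply hx
  let a : 𝟙_ (Over (Spec (CommRingCat.of K))) ⟶ G :=
    Over.homMk (pointOfClosedPoint G.hom x hxc) (pointOfClosedPoint_comp G.hom x hxc)
  have hax : a.left (AbRigid.pt₀ K) = x := pointOfClosedPoint_apply G.hom x hxc _
  have hcomm : AbRigid.ltr a ≫ u = u ≫ AbRigid.ltr (a ≫ u) := by
    simp only [AbRigid.ltr, MonObj.comp_mul, MonObj.mul_comp, Category.comp_id, Category.id_comp,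
      ← Category.assoc, CartesianMonoidalCategory.comp_toUnit]
  have hpre : u.left.base ⁻¹' {u.left.base x} ⊆
      AbRigid.ltrHomeo a '' (u.left.base ⁻¹' {(η[H]).left (AbRigid.pt₀ K)}) := by
    intro y hy
    refine ⟨AbRigid.ltrHomeo a⁻¹ y, ?_, AbRigid.ltrHomeo_apply_symm a y⟩
    apply (AbRigid.ltrHomeo (a ≫ u)).injective
    show (AbRigid.ltr (a ≫ u)).left (u.left _) = (AbRigid.ltrHomeo (a ≫ u)) _
    rw [← Scheme.Hom.comp_apply, ← Over.comp_left, ← hcomm, AbRigid.ltrHomeo_unit, Over.comp_left,
      Scheme.Hom.comp_apply, ← AbRigid.ltrHomeo_apply a, AbRigid.ltrHomeo_apply_symm]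
    rw [Over.comp_left, Scheme.Hom.comp_apply, hax]
    exact hy
  have hdx : _root_.IsDiscrete (u.left.base ⁻¹' {u.left.base x}) :=
    (hd.image (AbRigid.ltrHomeo a).isEmbedding.isInducing).mono hpre
  show u.left.QuasiFiniteAt x
  rw [Scheme.Hom.quasiFiniteAt_iff_isOpen_singleton_asFiber]
  haveI : DiscreteTopology ↥(u.left.base ⁻¹' {u.left.base x}) := isDiscrete_iff_discreteTopology.1 hdx
  haveI : DiscreteTopology ↥(u.left.fiber (u.left x)) :=
    (u.left.fiberHomeo (u.left x)).symm.discreteTopology
  exact isOpen_discrete _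

/-- A homomorphism of groups locally of finite type over an Artinian local ring with discrete kernel is
locally quasi-finite. -/
theorem locallyQuasiFinite_of_discrete_kernel (A : Type u) [CommRing A] [IsArtinianRing A] [IsLocalRing A]
    (G H : Over (Spec (CommRingCat.of A))) [GrpObj G] [GrpObj H]
    [LocallyOfFiniteType G.hom] [LocallyOfFiniteType H.hom] (u : G ⟶ H) [IsMonHom u]
    [DiscreteTopology ↥(pullback u.left (η[H]).left)] : LocallyQuasiFinite u.left := by
  haveI : LocallyOfFiniteType (u.left ≫ H.hom) := by rw [Over.w]; infer_instance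
  haveI : LocallyOfFiniteType u.left := locallyOfFiniteType_of_comp u.left H.hom
  let k := IsLocalRing.ResidueField A
  let K := AlgebraicClosure k
  let i : Spec (CommRingCat.of k) ⟶ Spec (CommRingCat.of A) :=
    Spec.map (CommRingCat.ofHom (IsLocalRing.residue A))
  let q : Spec (CommRingCat.of K) ⟶ Spec (CommRingCat.of k) :=
    Spec.map (CommRingCat.ofHom (algebraMap k K))
  haveI : IsClosedImmersion i := IsClosedImmersion.spec_of_surjective _ IsLocalRing.residue_surjective
  haveI : Surjective i := ⟨fun y => ⟨IsLocalRing.closedPoint k, Subsingleton.elim (α := PrimeSpectrum A) _ _⟩⟩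
  let p := q ≫ i
  -- the kernel is locally quasi-finite
  let nS : pullback u.left (η[H]).left ⟶ Spec (CommRingCat.of A) := pullback.snd u.left (η[H]).left
  haveI : LocallyOfFiniteType nS := MorphismProperty.pullback_snd _ _ ‹LocallyOfFiniteType u.left›
  haveI : LocallyQuasiFinite nS := locallyQuasiFinite_iff_isDiscrete_preimage_singleton.2 fun y =>
    isDiscrete_iff_discreteTopology.2 inferInstance
  let F := Over.pullback p
  letI : GrpObj (F.obj G) := Functor.grpObjObj
  letI : GrpObj (F.obj H) := Functor.grpObjObj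
  haveI : IsMonHom (F.map u) := inferInstance
  haveI : LocallyOfFiniteType (F.obj G).hom := inferInstanceAs (LocallyOfFiniteType (pullback.snd G.hom p))
  haveI : LocallyOfFiniteType (F.obj H).hom := inferInstanceAs (LocallyOfFiniteType (pullback.snd H.hom p))
  have sq := isPullback_map p u
  -- its base change to the algebraic closure is discrete
  let j : pullback u.left (η[H]).left ⟶ G.left := pullback.fst u.left (η[H]).left
  have hj : j ≫ G.hom = nS := by
    have h1 : (η[H]).left ≫ H.hom = 𝟙 _ := Over.w η[H]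
    have h2 : j ≫ u.left = nS ≫ (η[H]).left := pullback.condition
    rw [← Over.w u, reassoc_of% h2, h1]
    exact Category.comp_id _
  haveI : IsPreimmersion j := by
    haveI : IsImmersion ((η[H]).left ≫ H.hom) := by
      rw [show (η[H]).left ≫ H.hom = 𝟙 _ from Over.w η[H]]; infer_instance
    haveI : IsImmersion (η[H]).left := IsImmersion.of_comp (η[H]).left H.hom
    exact MorphismProperty.pullback_fst (P := @IsPreimmersion) _ _ inferInstance
  let m := pullback.map (j ≫ G.hom) p G.hom p j (𝟙 _) (𝟙 _) (by simp) (by simp)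
  have sqm : IsPullback (pullback.fst (j ≫ G.hom) p) m j (pullback.fst G.hom p) := by
    refine IsPullback.of_bot ?_ ?_ (IsPullback.of_hasPullback G.hom p)
    · simp only [m, pullback.lift_snd, Category.comp_id]
      exact IsPullback.of_hasPullback (j ≫ G.hom) p
    · simp [m]
  haveI : IsPreimmersion m := MorphismProperty.of_isPullback (P := @IsPreimmersion) sqm ‹IsPreimmersion j›
  haveI : LocallyQuasiFinite (j ≫ G.hom) := by rw [hj]; infer_instance
  haveI : LocallyOfFiniteType (j ≫ G.hom) := by rw [hj]; infer_instance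
  haveI : LocallyQuasiFinite (pullback.snd (j ≫ G.hom) p) :=
    MorphismProperty.pullback_snd _ _ ‹LocallyQuasiFinite (j ≫ G.hom)›
  haveI : LocallyOfFiniteType (pullback.snd (j ≫ G.hom) p) :=
    MorphismProperty.pullback_snd _ _ ‹LocallyOfFiniteType (j ≫ G.hom)›
  have huniv : _root_.IsDiscrete (Set.univ : Set ↥(pullback (j ≫ G.hom) p)) := by
    have h := (pullback.snd (j ≫ G.hom) p).isDiscrete_preimage_singleton (AbRigid.pt₀ K)
    rwa [show (pullback.snd (j ≫ G.hom) p) ⁻¹' {AbRigid.pt₀ K} = Set.univ from
      Set.eq_univ_of_forall fun x => Subsingleton.elim (α := PrimeSpectrum K) _ _] at h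
  have hd : _root_.IsDiscrete ((F.map u).left.base ⁻¹' {(η[F.obj H]).left (AbRigid.pt₀ K)}) := by
    refine ((huniv.image m.isEmbedding.isInducing).mono ?_)
    intro y hy
    rw [Set.image_univ, Scheme.Pullback.range_map]
    refine ⟨?_, ⟨(pullback.snd G.hom p) y, rfl⟩⟩
    have hη : (pullback.fst H.hom p).base ((η[F.obj H]).left (AbRigid.pt₀ K)) ∈ Set.range (η[H]).left := by
      have e : η[F.obj H] = Functor.LaxMonoidal.ε F ≫ F.map η[H] := rfl
      refine ⟨(pullback.fst _ p).base ((Functor.LaxMonoidal.ε F).left (AbRigid.pt₀ K)), ?_⟩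
      rw [e]
      exact congrArg (fun f => f.base ((Functor.LaxMonoidal.ε F).left (AbRigid.pt₀ K))) (isPullback_map p η[H]).w
    have hy' : (F.map u).left.base y = (η[F.obj H]).left (AbRigid.pt₀ K) := hy
    rw [← hy'] at hη
    have hw : (pullback.fst H.hom p).base ((F.map u).left.base y) = u.left.base ((pullback.fst G.hom p).base y) :=
      (congrArg (fun f => f.base y) sq.w).symm
    rw [hw] at hη
    obtain ⟨t, ht⟩ := hη
    obtain ⟨n, hn, -⟩ := Scheme.Pullback.exists_preimage_pullback (f := u.left) (g := (η[H]).left)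
      ((pullback.fst G.hom p) y) t ht.symm
    exact ⟨n, hn⟩
  haveI : LocallyQuasiFinite (F.map u).left := locallyQuasiFinite_of_isAlgClosed _ _ _ hd
  -- descend
  let F₀ := Over.pullback i
  have sq₀ := isPullback_map i u
  refine (ThickUnr4.locallyQuasiFinite_iff_lft sq₀).1 ?_
  let π₁ := pullback.map H.hom p H.hom i (𝟙 _) q (𝟙 _) (by simp) (by simp [p])
  let π₂ := pullback.map G.hom p G.hom i (𝟙 _) q (𝟙 _) (by simp) (by simp [p])
  have bH : IsPullback π₁ (pullback.snd H.hom p) (pullback.snd H.hom i) q := by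
    refine IsPullback.of_right ?_ (pullback.lift_snd _ _ _) (IsPullback.of_hasPullback H.hom i)
    simp only [π₁, pullback.lift_fst, Category.comp_id]
    exact IsPullback.of_hasPullback H.hom p
  have bG : IsPullback π₂ (pullback.snd G.hom p) (pullback.snd G.hom i) q := by
    refine IsPullback.of_right ?_ (pullback.lift_snd _ _ _) (IsPullback.of_hasPullback G.hom i)
    simp only [π₂, pullback.lift_fst, Category.comp_id]
    exact IsPullback.of_hasPullback G.hom p
  have hsq : IsPullback π₂ (F.map u).left (F₀.map u).left π₁ := by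
    refine IsPullback.of_bot ?_ ?_ bH
    · convert bG using 1
      · exact Over.w (F.map u)
      · exact Over.w (F₀.map u)
    · apply pullback.hom_ext
      · simp [π₁, π₂, F, F₀]
      · simp [π₁, π₂, F, F₀]
  haveI := FpqcDesc.descendsAlong_locallyQuasiFinite.{u}
  haveI : LocallyOfFiniteType (F.map u).left := AlgGrpBasic19.lft_left _
  have hQ : (@Surjective ⊓ @Flat ⊓ @QuasiCompact : MorphismProperty Scheme.{u}) q :=
    ⟨⟨inferInstance, inferInstance⟩, inferInstance⟩
  exact (MorphismProperty.of_isPullback_of_descendsAlong (Q := @Surjective ⊓ @Flat ⊓ @QuasiCompact)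
    (P := @LocallyQuasiFinite ⊓ @LocallyOfFiniteType) hsq.flip (MorphismProperty.of_isPullback bH.flip hQ)
      ⟨‹LocallyQuasiFinite (F.map u).left›, ‹LocallyOfFiniteType (F.map u).left›⟩).1

end Groth.Agent.GrpFin20
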