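import Groth.Agent.Lib.GrpFin20.Basic
import Groth.Agent.Lib.AbRigid.FlatFibre
import Groth.Agent.Lib.PerfProd19.Basic

/-!
# Quasi-compact homomorphisms with proper kernel are proper
-/

universe u

open CategoryTheory Limits MonoidalCategory CartesianMonoidalCategory AlgebraicGeometry TopologicalSpace
open scoped MonObj GrpObj

set_option linter.style.haveILetI false
set_option backward.isDefEq.respectTransparency false

namespace Groth.Agent.GrpFin20

theorem ι_eq_inv {C : Type*} [Category C] [CartesianMonoidalCategory C] {W Y : C} [GrpObj Y] (f : W ⟶ Y) :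
    f ≫ ι[Y] = f⁻¹ := rfl

variable {K : Type u} [Field K]

/-- A quasi-compact homomorphism with proper kernel over an algebraically closed field is proper. -/
theorem isProper_of_isAlgClosed [IsAlgClosed K] (G H : Over (Spec (CommRingCat.of K))) [GrpObj G] [GrpObj H]
    [LocallyOfFiniteType G.hom] [LocallyOfFiniteType H.hom] (u : G ⟶ H) [IsMonHom u]
    [QuasiCompact u.left] (N : Over (Spec (CommRingCat.of K))) (ι₀ : N ⟶ G)
    (hN : IsPullback ι₀ (toUnit N) u η[H]) [IsProper N.hom] : IsProper u.left := by
  let Z : Over (Spec (CommRingCat.of K)) := Over.mk (u.left.imageι ≫ H.hom)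
  let i : Z ⟶ H := Over.homMk u.left.imageι rfl
  let g : G ⟶ Z := Over.homMk u.left.toImage (by
    show u.left.toImage ≫ u.left.imageι ≫ H.hom = G.hom
    rw [Scheme.Hom.toImage_imageι_assoc, Over.w])
  haveI : IsClosedImmersion i.left := inferInstanceAs (IsClosedImmersion u.left.imageι)
  haveI : IsSchemeTheoreticallyDominant g.left := AbRigid.isSchemeTheoreticallyDominant_toImage u.left
  have hgi : g ≫ i = u := by ext1; exact u.left.toImage_imageι
  obtain ⟨_, hi, hg⟩ := GrpImage19.exists_grpObj u i g hgi
  haveI : LocallyOfFiniteType Z.hom := inferInstanceAs (LocallyOfFiniteType (u.left.imageι ≫ H.hom))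
  haveI : QuasiCompact g.left := GrpImage19.quasiCompact_of_factor u i g hgi
  haveI : Surjective g.left := GrpImage19.surjective u i g hgi
  haveI : Mono i := (Over.forget _).mono_of_mono_map (f := i) (show Mono i.left from inferInstance)
  -- the reduced subgroup of the image
  let Zr : Over (Spec (CommRingCat.of K)) := Over.mk (Z.left.nilradical.subschemeι ≫ Z.hom)
  let r : Zr ⟶ Z := Over.homMk Z.left.nilradical.subschemeι rfl
  haveI : IsClosedImmersion r.left := inferInstanceAs (IsClosedImmersion Z.left.nilradical.subschemeι)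
  haveI : Surjective r.left := by
    refine ⟨fun z => ?_⟩
    have h : Set.range Z.left.nilradical.subschemeι = Set.univ := by
      rw [Scheme.IdealSheafData.range_subschemeι, Scheme.support_nilradical]; rfl
    exact h.ge (Set.mem_univ z)
  haveI : IsReduced Zr.left := RedSepLib.isReduced_nilradical_subscheme Z.left
  haveI : IsReduced (𝟙_ (Over (Spec (CommRingCat.of K)))).left :=
    inferInstanceAs (IsReduced (Spec (CommRingCat.of K)))
  haveI : IsReduced (Zr ⊗ Zr).left := PerfProd19.isReduced_tensorObj Zr Zr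
  haveI : Mono r := (Over.forget _).mono_of_mono_map (f := r) (show Mono r.left from inferInstance)
  obtain ⟨e, he⟩ := PerfProd19.exists_lift_of_surjective r η[Z]
  obtain ⟨m, hm⟩ := PerfProd19.exists_lift_of_surjective r ((r ⊗ₘ r) ≫ μ[Z])
  obtain ⟨v, hv⟩ := PerfProd19.exists_lift_of_surjective r (r ≫ ι[Z])
  letI : GrpObj Zr := AbRigid.grpObjOfMono r e he m hm v hv
  haveI : IsMonHom r := ⟨he, hm⟩
  -- its preimage
  let G' : Over (Spec (CommRingCat.of K)) := Over.mk (pullback.fst g.left r.left ≫ G.hom)
  let j : G' ⟶ G := Over.homMk (pullback.fst g.left r.left) rfl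
  let g' : G' ⟶ Zr := Over.homMk (pullback.snd g.left r.left) (by
    show pullback.snd g.left r.left ≫ Zr.hom = pullback.fst g.left r.left ≫ G.hom
    rw [← Over.w r, ← pullback.condition_assoc, Over.w g])
  haveI : IsClosedImmersion j.left := inferInstanceAs (IsClosedImmersion (pullback.fst g.left r.left))
  haveI : Surjective j.left := inferInstanceAs (Surjective (pullback.fst g.left r.left))
  haveI : Mono j := (Over.forget _).mono_of_mono_map (f := j) (show Mono j.left from inferInstance)
  have hjg : j ≫ g = g' ≫ r := by ext1; exact pullback.condition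
  have hlift : ∀ (W : Over (Spec (CommRingCat.of K))) (a : W ⟶ G) (b : W ⟶ Zr), a ≫ g = b ≫ r →
      ∃ l : W ⟶ G', l ≫ j = a ∧ l ≫ g' = b := by
    intro W a b h
    refine ⟨Over.homMk (pullback.lift a.left b.left (congrArg (fun t => t.left) h)) ?_, ?_, ?_⟩
    · show pullback.lift _ _ _ ≫ pullback.fst g.left r.left ≫ G.hom = _
      rw [pullback.lift_fst_assoc, Over.w]
    · ext1; exact pullback.lift_fst _ _ _
    · ext1; exact pullback.lift_snd _ _ _
  obtain ⟨e', he', he''⟩ := hlift _ η[G] η[Zr] (by rw [IsMonHom.one_hom, IsMonHom.one_hom])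
  obtain ⟨m', hm', hm''⟩ := hlift _ ((j ⊗ₘ j) ≫ μ[G]) ((g' ⊗ₘ g') ≫ μ[Zr]) (by
    rw [Category.assoc, Category.assoc, IsMonHom.mul_hom, IsMonHom.mul_hom,
      MonoidalCategory.tensorHom_comp_tensorHom_assoc, MonoidalCategory.tensorHom_comp_tensorHom_assoc, hjg])
  obtain ⟨v', hv', hv''⟩ := hlift _ (j ≫ ι[G]) (g' ≫ ι[Zr]) (by
    simp only [ι_eq_inv, GrpObj.inv_comp, hjg])
  letI : GrpObj G' := AbRigid.grpObjOfMono j e' he' m' hm' v' hv'
  haveI : IsMonHom j := ⟨he', hm'⟩
  haveI : IsMonHom g' := ⟨he'', hm''⟩
  haveI : Surjective g'.left := inferInstanceAs (Surjective (pullback.snd g.left r.left))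
  haveI : QuasiCompact g'.left := inferInstanceAs (QuasiCompact (pullback.snd g.left r.left))
  haveI : Flat g'.left := AbRigid.flat_of_surjective_of_isReduced G' Zr g'
  -- its kernel
  have h1 : ι₀ ≫ g = toUnit N ≫ η[Z] := by
    rw [← cancel_mono i, Category.assoc, hgi, hN.w, Category.assoc, IsMonHom.one_hom]
  obtain ⟨ι', hι', hι''⟩ := hlift N ι₀ (toUnit N ≫ η[Zr]) (by
    rw [h1, Category.assoc, IsMonHom.one_hom])
  have hker : IsPullback ι' (toUnit N) g' η[Zr] := by
    have hcone : ∀ {T : Over (Spec (CommRingCat.of K))} (a : T ⟶ G') (b : T ⟶ 𝟙_ _), a ≫ g' = b ≫ η[Zr] →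
        (a ≫ j) ≫ u = b ≫ η[H] := by
      intro T a b h
      rw [← hgi, Category.assoc, ← Category.assoc j, hjg, Category.assoc, reassoc_of% h,
        ← Category.assoc η[Zr], IsMonHom.one_hom, IsMonHom.one_hom]
    refine IsPullback.of_isLimit' ⟨hι''⟩ (PullbackCone.IsLimit.mk _
      (fun c => hN.lift (c.fst ≫ j) c.snd (hcone c.fst c.snd c.condition)) (fun c => ?_) (fun c => ?_)
      (fun c l h₁ h₂ => ?_))
    · rw [← cancel_mono j, Category.assoc, hι', hN.lift_fst]
    · exact toUnit_unique _ _
    · apply hN.hom_ext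
      · rw [hN.lift_fst, ← h₁, Category.assoc, hι']
      · exact toUnit_unique _ _
  haveI := FpqcDesc.descendsAlong_isProper.{u}
  haveI hp : IsProper g'.left := AbRigid.of_kernel g' ι' hker @IsProper ‹IsProper N.hom›
  haveI : LocallyOfFiniteType g.left := AlgGrpBasic19.lft_left g
  haveI : IsProper (j.left ≫ g.left) := by
    rw [← Over.comp_left, hjg, Over.comp_left]; infer_instance
  haveI : UniversallyClosed g.left := UniversallyClosed.of_comp_surjective j.left g.left
  haveI : IsSeparated g.left := H12.isSeparated_of_surjective_universallyClosed (j.left ≫ g.left) g.left j.left rfl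
  haveI : IsProper g.left := ⟨⟩
  rw [← hgi, Over.comp_left]
  infer_instance

theorem kernel_map {S S' : Scheme.{u}} (φ : S' ⟶ S) {G H N : Over S} [GrpObj G] [GrpObj H] (u : G ⟶ H)
    [IsMonHom u] (ι₀ : N ⟶ G) (hN : IsPullback ι₀ (toUnit N) u η[H]) :
    letI : GrpObj ((Over.pullback φ).obj H) := Functor.grpObjObj
    IsPullback ((Over.pullback φ).map ι₀) (toUnit ((Over.pullback φ).obj N)) ((Over.pullback φ).map u)
      η[(Over.pullback φ).obj H] := by
  letI : GrpObj ((Over.pullback φ).obj H) := Functor.grpObjObj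
  refine (hN.map (Over.pullback φ)).of_iso (Iso.refl _) (Iso.refl _)
    (Functor.Monoidal.εIso (Over.pullback φ)).symm (Iso.refl _) ?_ ?_ ?_ ?_
  · simp
  · exact toUnit_unique _ _
  · simp
  · show (Over.pullback φ).map η[H] ≫ 𝟙 _ = (Functor.Monoidal.εIso (Over.pullback φ)).inv ≫
      (Functor.LaxMonoidal.ε (Over.pullback φ) ≫ (Over.pullback φ).map η[H])
    rw [Category.comp_id, ← Functor.Monoidal.εIso_hom, Iso.inv_hom_id_assoc]

/-- A quasi-compact homomorphism with proper kernel over a field is proper. -/
theorem isProper_of_field (G H : Over (Spec (CommRingCat.of K))) [GrpObj G] [GrpObj H]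
    [LocallyOfFiniteType G.hom] [LocallyOfFiniteType H.hom] (u : G ⟶ H) [IsMonHom u]
    [QuasiCompact u.left] (N : Over (Spec (CommRingCat.of K))) (ι₀ : N ⟶ G)
    (hN : IsPullback ι₀ (toUnit N) u η[H]) [IsProper N.hom] : IsProper u.left := by
  let φ := Spec.map (CommRingCat.ofHom (algebraMap K (AlgebraicClosure K)))
  let F := Over.pullback φ
  letI : GrpObj (F.obj G) := Functor.grpObjObj
  letI : GrpObj (F.obj H) := Functor.grpObjObj
  haveI : IsMonHom (F.map u) := inferInstance
  haveI : LocallyOfFiniteType (F.obj G).hom := inferInstanceAs (LocallyOfFiniteType (pullback.snd G.hom φ))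
  haveI : LocallyOfFiniteType (F.obj H).hom := inferInstanceAs (LocallyOfFiniteType (pullback.snd H.hom φ))
  haveI : IsProper (F.obj N).hom := inferInstanceAs (IsProper (pullback.snd N.hom φ))
  have sq := isPullback_map φ u
  haveI : QuasiCompact (F.map u).left := MorphismProperty.of_isPullback sq ‹QuasiCompact u.left›
  haveI : IsProper (F.map u).left :=
    isProper_of_isAlgClosed _ _ (F.map u) (F.obj N) (F.map ι₀) (kernel_map φ u ι₀ hN)
  haveI := FpqcDesc.descendsAlong_isProper.{u}
  refine MorphismProperty.of_isPullback_of_descendsAlong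
    (Q := @Surjective ⊓ @Flat ⊓ @QuasiCompact) sq.flip ?_ ‹IsProper (F.map u).left›
  exact ⟨⟨inferInstance, inferInstance⟩, inferInstance⟩

/-- A quasi-compact homomorphism with proper kernel over an Artinian local ring is proper. -/
theorem isProper_of_artinian (A : Type u) [CommRing A] [IsArtinianRing A] [IsLocalRing A]
    (G H : Over (Spec (CommRingCat.of A))) [GrpObj G] [GrpObj H]
    [LocallyOfFiniteType G.hom] [LocallyOfFiniteType H.hom] (u : G ⟶ H) [IsMonHom u]
    [QuasiCompact u.left] (N : Over (Spec (CommRingCat.of A))) (ι₀ : N ⟶ G)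
    (hN : IsPullback ι₀ (toUnit N) u η[H]) [IsProper N.hom] : IsProper u.left := by
  haveI : LocallyOfFiniteType (u.left ≫ H.hom) := by rw [Over.w]; infer_instance
  haveI : LocallyOfFiniteType u.left := locallyOfFiniteType_of_comp u.left H.hom
  let k := IsLocalRing.ResidueField A
  let i : Spec (CommRingCat.of k) ⟶ Spec (CommRingCat.of A) :=
    Spec.map (CommRingCat.ofHom (IsLocalRing.residue A))
  haveI : IsClosedImmersion i := IsClosedImmersion.spec_of_surjective _ IsLocalRing.residue_surjective
  haveI : Surjective i := ⟨fun y => ⟨IsLocalRing.closedPoint k, Subsingleton.elim (α := PrimeSpectrum A) _ _⟩⟩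
  let F := Over.pullback i
  letI : GrpObj (F.obj G) := Functor.grpObjObj
  letI : GrpObj (F.obj H) := Functor.grpObjObj
  haveI : IsMonHom (F.map u) := inferInstance
  haveI : LocallyOfFiniteType (F.obj G).hom := inferInstanceAs (LocallyOfFiniteType (pullback.snd G.hom i))
  haveI : LocallyOfFiniteType (F.obj H).hom := inferInstanceAs (LocallyOfFiniteType (pullback.snd H.hom i))
  haveI : IsProper (F.obj N).hom := inferInstanceAs (IsProper (pullback.snd N.hom i))
  have sq := isPullback_map i u
  haveI : QuasiCompact (F.map u).left := MorphismProperty.of_isPullback sq ‹QuasiCompact u.left›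
  haveI : IsProper (F.map u).left :=
    isProper_of_field _ _ (F.map u) (F.obj N) (F.map ι₀) (kernel_map i u ι₀ hN)
  let π := pullback.fst G.hom i
  haveI : IsClosedImmersion (pullback.fst H.hom i) := inferInstance
  haveI : UniversallyClosed (π ≫ u.left) := by rw [sq.w]; infer_instance
  haveI : IsSeparated (π ≫ u.left) := by rw [sq.w]; infer_instance
  haveI : UniversallyClosed u.left := UniversallyClosed.of_comp_surjective π u.left
  haveI : IsSeparated u.left := H12.isSeparated_of_surjective_universallyClosed (π ≫ u.left) u.left π rfl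
  exact ⟨⟩

end Groth.Agent.GrpFin20
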