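import Groth.Agent.Lib.GrpFin20.Proper
import Groth.Agent.Lib.Thick4

/-!
# Open homomorphisms of groups are universally open
-/

universe u

open CategoryTheory Limits MonoidalCategory CartesianMonoidalCategory AlgebraicGeometry TopologicalSpace
open scoped MonObj GrpObj

set_option linter.style.haveILetI false
set_option backward.isDefEq.respectTransparency false

namespace Groth.Agent.GrpFin20

variable {K : Type u} [Field K]

/-- A homomorphism with open image into a reduced group is flat. -/
theorem flat_of_isOpen_range (G H : Over (Spec (CommRingCat.of K))) [GrpObj G] [GrpObj H]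
    [IsReduced H.left] (f : G ⟶ H) [IsMonHom f] (ho : IsOpen (Set.range f.left.base)) : Flat f.left := by
  let x₀ : H.left := η[H].left (IsLocalRing.closedPoint K)
  obtain ⟨η₀, hη⟩ := QuasiSober.sober (S := irreducibleComponent x₀)
    isIrreducible_irreducibleComponent isClosed_irreducibleComponent
  obtain ⟨ξ, hξ⟩ : η₀ ∈ Set.range f.left.base := by
    refine (hη.specializes (mem_irreducibleComponent : x₀ ∈ irreducibleComponent x₀)).mem_open ho ?_
    refine ⟨η[G].left (IsLocalRing.closedPoint K), ?_⟩
    show f.left (η[G].left _) = _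
    rw [← Scheme.Hom.comp_apply, ← Over.comp_left, IsMonHom.one_hom]
  refine AbRigid.flat_of_flat_stalkMap G H f ξ ?_
  have hF : IsField (H.left.presheaf.stalk (f.left ξ)) := by
    rw [hξ]
    exact isField_stalk_of_closure_mem_irreducibleComponents H.left η₀
      (hη.def ▸ irreducibleComponent_mem_irreducibleComponents x₀)
  letI : Field (H.left.presheaf.stalk (f.left ξ)) := hF.toField
  algebraize [(f.left.stalkMap ξ).hom]
  exact (inferInstance : Module.Flat (H.left.presheaf.stalk (f.left ξ)) (G.left.presheaf.stalk ξ))

/-- Over a perfect field, a homomorphism can be restricted over the reduced subgroup of the target. -/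
theorem exists_reduced_target [PerfectField K] (G Z : Over (Spec (CommRingCat.of K))) [GrpObj G] [GrpObj Z]
    (g : G ⟶ Z) [IsMonHom g] :
    ∃ (Zr G' : Over (Spec (CommRingCat.of K))) (_ : GrpObj Zr) (_ : GrpObj G') (r : Zr ⟶ Z) (j : G' ⟶ G)
      (g' : G' ⟶ Zr), IsMonHom g' ∧ IsReduced Zr.left ∧ IsClosedImmersion r.left ∧ Surjective r.left ∧
        IsPullback j.left g'.left g.left r.left := by
  let Zr : Over (Spec (CommRingCat.of K)) := Over.mk (Z.left.nilradical.subschemeι ≫ Z.hom)
  let r : Zr ⟶ Z := Over.homMk Z.left.nilradical.subschemeι rfl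
  haveI : IsClosedImmersion r.left := inferInstanceAs (IsClosedImmersion Z.left.nilradical.subschemeι)
  haveI : Surjective r.left := by
    refine ⟨fun z => ?_⟩
    have h : Set.range Z.left.nilradical.subschemeι = Set.univ := by
      rw [Scheme.IdealSheafData.range_subschemeι, Scheme.support_nilradical]; rfl
    exact h.ge (Set.mem_univ z)
  haveI : IsReduced Zr.left := RedSepLib.isReduced_nilradical_subscheme Z.left
  haveI : IsReduced (𝟙_ (Over (Spec (CommRingCat.of K)))).left :=
    inferInstanceAs (IsReduced (Spec (CommRingCat.of K)))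
  haveI : IsReduced (Zr ⊗ Zr).left := PerfProd19.isReduced_tensorObj Zr Zr
  haveI : Mono r := (Over.forget _).mono_of_mono_map (f := r) (show Mono r.left from inferInstance)
  obtain ⟨e, he⟩ := PerfProd19.exists_lift_of_surjective r η[Z]
  obtain ⟨m, hm⟩ := PerfProd19.exists_lift_of_surjective r ((r ⊗ₘ r) ≫ μ[Z])
  obtain ⟨v, hv⟩ := PerfProd19.exists_lift_of_surjective r (r ≫ ι[Z])
  letI : GrpObj Zr := AbRigid.grpObjOfMono r e he m hm v hv
  haveI : IsMonHom r := ⟨he, hm⟩
  let G' : Over (Spec (CommRingCat.of K)) := Over.mk (pullback.fst g.left r.left ≫ G.hom)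
  let j : G' ⟶ G := Over.homMk (pullback.fst g.left r.left) rfl
  let g' : G' ⟶ Zr := Over.homMk (pullback.snd g.left r.left) (by
    show pullback.snd g.left r.left ≫ Zr.hom = pullback.fst g.left r.left ≫ G.hom
    rw [← Over.w r, ← pullback.condition_assoc, Over.w g])
  haveI : IsClosedImmersion j.left := inferInstanceAs (IsClosedImmersion (pullback.fst g.left r.left))
  haveI : Mono j := (Over.forget _).mono_of_mono_map (f := j) (show Mono j.left from inferInstance)
  have hjg : j ≫ g = g' ≫ r := by ext1; exact pullback.condition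
  have hlift : ∀ (W : Over (Spec (CommRingCat.of K))) (a : W ⟶ G) (b : W ⟶ Zr), a ≫ g = b ≫ r →
      ∃ l : W ⟶ G', l ≫ j = a ∧ l ≫ g' = b := by
    intro W a b h
    refine ⟨Over.homMk (pullback.lift a.left b.left (congrArg (fun t => t.left) h)) ?_, ?_, ?_⟩
    · show pullback.lift _ _ _ ≫ pullback.fst g.left r.left ≫ G.hom = _
      rw [pullback.lift_fst_assoc, Over.w]
    · ext1; exact pullback.lift_fst _ _ _
    · ext1; exact pullback.lift_snd _ _ _
  obtain ⟨e', he', he''⟩ := hlift _ η[G] η[Zr] (by rw [IsMonHom.one_hom, IsMonHom.one_hom])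
  obtain ⟨m', hm', hm''⟩ := hlift _ ((j ⊗ₘ j) ≫ μ[G]) ((g' ⊗ₘ g') ≫ μ[Zr]) (by
    rw [Category.assoc, Category.assoc, IsMonHom.mul_hom, IsMonHom.mul_hom,
      MonoidalCategory.tensorHom_comp_tensorHom_assoc, MonoidalCategory.tensorHom_comp_tensorHom_assoc, hjg])
  obtain ⟨v', hv', hv''⟩ := hlift _ (j ≫ ι[G]) (g' ≫ ι[Zr]) (by
    simp only [ι_eq_inv, GrpObj.inv_comp, hjg])
  letI : GrpObj G' := AbRigid.grpObjOfMono j e' he' m' hm' v' hv'
  haveI : IsMonHom g' := ⟨he'', hm''⟩
  exact ⟨Zr, G', inferInstance, inferInstance, r, j, g', inferInstance, inferInstance, inferInstance,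
    inferInstance, IsPullback.of_hasPullback g.left r.left⟩

/-- A homomorphism with open image over an algebraically closed field is universally open. -/
theorem universallyOpen_of_isAlgClosed [IsAlgClosed K] (G H : Over (Spec (CommRingCat.of K))) [GrpObj G] [GrpObj H]
    [LocallyOfFiniteType G.hom] [LocallyOfFiniteType H.hom] (u : G ⟶ H) [IsMonHom u]
    (ho : IsOpen (Set.range u.left.base)) : UniversallyOpen u.left := by
  obtain ⟨Hr, G', _, _, r, j, u', hu', hred, hr, hrs, sq⟩ := exists_reduced_target G H u
  haveI := hred
  haveI := hr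
  haveI := hrs
  haveI := hu'
  haveI : IsClosedImmersion j.left := MorphismProperty.of_isPullback sq.flip hr
  haveI : Surjective j.left := MorphismProperty.of_isPullback sq.flip hrs
  haveI : LocallyOfFiniteType Hr.hom := by rw [← Over.w r]; infer_instance
  haveI : LocallyOfFiniteType G'.hom := by rw [← Over.w j]; infer_instance
  have hrange : IsOpen (Set.range u'.left.base) := by
    have : Set.range u'.left.base = r.left.base ⁻¹' Set.range u.left.base := by
      ext y
      constructor
      · rintro ⟨x, rfl⟩
        exact ⟨j.left x, congrArg (fun f => f.base x) sq.w⟩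
      · rintro ⟨x, hx⟩
        obtain ⟨z, -, hz⟩ := Scheme.exists_preimage_of_isPullback sq x y hx
        exact ⟨z, hz⟩
    rw [this]
    exact ho.preimage r.left.continuous
  haveI : Flat u'.left := flat_of_isOpen_range G' Hr u' hrange
  haveI : LocallyOfFiniteType u'.left := AlgGrpBasic19.lft_left u'
  haveI : IsLocallyNoetherian Hr.left := LocallyOfFiniteType.isLocallyNoetherian Hr.hom
  haveI : LocallyOfFinitePresentation u'.left := inferInstance
  haveI : UniversallyOpen r.left := Thick4.universallyOpen_of_surjective_closedImmersion r.left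
  haveI : UniversallyOpen (j.left ≫ u.left) := by rw [sq.w]; infer_instance
  exact Thick4.universallyOpen_of_comp_surjective j.left u.left

/-- A homomorphism with open image of groups over an Artinian local ring is universally open. -/
theorem universallyOpen_of_artinian (A : Type u) [CommRing A] [IsArtinianRing A] [IsLocalRing A]
    (G H : Over (Spec (CommRingCat.of A))) [GrpObj G] [GrpObj H]
    [LocallyOfFiniteType G.hom] [LocallyOfFiniteType H.hom] (u : G ⟶ H) [IsMonHom u]
    (ho : IsOpen (Set.range u.left.base)) : UniversallyOpen u.left := by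
  let k := IsLocalRing.ResidueField A
  let L := AlgebraicClosure k
  let i : Spec (CommRingCat.of k) ⟶ Spec (CommRingCat.of A) :=
    Spec.map (CommRingCat.ofHom (IsLocalRing.residue A))
  let q : Spec (CommRingCat.of L) ⟶ Spec (CommRingCat.of k) :=
    Spec.map (CommRingCat.ofHom (algebraMap k L))
  haveI : IsClosedImmersion i := IsClosedImmersion.spec_of_surjective _ IsLocalRing.residue_surjective
  haveI : Surjective i := ⟨fun y => ⟨IsLocalRing.closedPoint k, Subsingleton.elim (α := PrimeSpectrum A) _ _⟩⟩
  haveI := Thick4.universallyOpen_of_surjective_closedImmersion i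
  let p := q ≫ i
  haveI : Surjective p := inferInstance
  haveI : UniversallyOpen p := inferInstance
  let F := Over.pullback p
  letI : GrpObj (F.obj G) := Functor.grpObjObj
  letI : GrpObj (F.obj H) := Functor.grpObjObj
  haveI : IsMonHom (F.map u) := inferInstance
  haveI : LocallyOfFiniteType (F.obj G).hom := inferInstanceAs (LocallyOfFiniteType (pullback.snd G.hom p))
  haveI : LocallyOfFiniteType (F.obj H).hom := inferInstanceAs (LocallyOfFiniteType (pullback.snd H.hom p))
  have sq := isPullback_map p u
  have hrange : IsOpen (Set.range (F.map u).left.base) := by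
    have : Set.range (F.map u).left.base = (pullback.fst H.hom p).base ⁻¹' Set.range u.left.base := by
      ext y
      constructor
      · rintro ⟨x, rfl⟩
        exact ⟨(pullback.fst G.hom p).base x, congrArg (fun f => f.base x) sq.w⟩
      · rintro ⟨x, hx⟩
        obtain ⟨z, -, hz⟩ := Scheme.exists_preimage_of_isPullback sq x y hx
        exact ⟨z, hz⟩
    rw [this]
    exact ho.preimage (pullback.fst H.hom p).continuous
  haveI : UniversallyOpen (F.map u).left := universallyOpen_of_isAlgClosed _ _ (F.map u) hrange
  haveI : UniversallyOpen (pullback.fst G.hom p ≫ u.left) := by rw [sq.w]; infer_instance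
  exact Thick4.universallyOpen_of_comp_surjective (pullback.fst G.hom p) u.left

end Groth.Agent.GrpFin20
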